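import Cfsg.Agent.Lib.Fi22P.Triple

/-!
# Composition of columns on packed lists

A list of numbers below `2 ^ 156` becomes one number; composing with columns takes one step for
each column.
-/

set_option autoImplicit false

namespace CfsgLib.Chev.E6Fi22

open CfsgLib.Fi22P.Cols (ap ap_zero)

/-- The packed list. -/
def pack : List ℕ → ℕ
  | [] => 0
  | c :: cs => 2 ^ 156 * pack cs + c

/-- The mask of the lowest bits of the slots. -/
def maskSlots : ℕ → ℕ
  | 0 => 0
  | n + 1 => 2 ^ 156 * maskSlots n + 1

/-- Composition with columns on a packed list. -/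
def pc (m : ℕ) : List ℕ → ℕ → ℕ
  | [], _ => 0
  | c :: cs, P => ((P &&& m) * c) ^^^ pc m cs (P >>> 1)

theorem testBit_cons {a P : ℕ} (ha : a < 2 ^ 156) (t : ℕ) :
    (2 ^ 156 * P + a).testBit t = if t < 156 then a.testBit t else P.testBit (t - 156) :=
  Nat.testBit_two_pow_mul_add P ha t

theorem and_mask : ∀ (R : List ℕ) (i : ℕ), i < 156 → (∀ v ∈ R, v < 2 ^ 156) →
    (pack R >>> i) &&& maskSlots R.length = pack (R.map fun v => if v.testBit i then 1 else 0)
  | [], i, _, _ => by simp [pack, maskSlots]
  | a :: R, i, hi, h => by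
    have ha := h a List.mem_cons_self
    have ih := and_mask R i hi fun v hv => h v (List.mem_cons_of_mem _ hv)
    refine Nat.eq_of_testBit_eq fun t => ?_
    simp only [List.map_cons, pack, List.length_cons, maskSlots, Nat.testBit_and,
      Nat.testBit_shiftRight]
    rw [testBit_cons ha, testBit_cons (Nat.one_lt_two_pow (by norm_num)) t,
      testBit_cons (show (if a.testBit i then 1 else 0) < 2 ^ 156 by
        split_ifs
        exacts [Nat.one_lt_two_pow (by norm_num), Nat.two_pow_pos _]) t]
    by_cases ht : t < 156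
    · rw [if_pos ht, if_pos ht]
      rcases Nat.eq_zero_or_pos t with rfl | h0
      · rw [if_pos (show i + 0 < 156 by omega), Nat.add_zero]
        cases a.testBit i <;> simp
      · rw [Nat.testBit_one_eq_true_iff_self_eq_zero.not.2 (by omega) |> Bool.eq_false_iff.2,
          Bool.and_false]
        cases a.testBit i <;> simp [Nat.testBit_eq_false_of_lt, Nat.one_lt_two_pow (show t ≠ 0 by omega)]
    · rw [if_neg ht, if_neg ht, if_neg (show ¬ i + t < 156 by omega), ← ih, Nat.testBit_and,
        Nat.testBit_shiftRight, show i + t - 156 = i + (t - 156) by omega]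

theorem pack_mul : ∀ (R : List ℕ) (c : ℕ), pack R * c = pack (R.map fun v => v * c)
  | [], c => Nat.zero_mul c
  | a :: R, c => by simp only [List.map_cons, pack, ← pack_mul R c]; ring

theorem pack_xor {α : Type*} : ∀ (R : List α) (f g : α → ℕ), (∀ v ∈ R, f v < 2 ^ 156) →
    (∀ v ∈ R, g v < 2 ^ 156) → pack (R.map f) ^^^ pack (R.map g) = pack (R.map fun v => f v ^^^ g v)
  | [], _, _, _, _ => by simp [pack]
  | a :: R, f, g, hf, hg => by
    have h1 := hf a List.mem_cons_self
    have h2 := hg a List.mem_cons_self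
    refine Nat.eq_of_testBit_eq fun t => ?_
    simp only [List.map_cons, pack, Nat.testBit_xor, testBit_cons h1, testBit_cons h2,
      testBit_cons (Nat.xor_lt_two_pow h1 h2)]
    by_cases ht : t < 156
    · simp [ht]
    · simp only [if_neg ht]
      rw [← Nat.testBit_xor, pack_xor R f g (fun v hv => hf v (List.mem_cons_of_mem _ hv))
        fun v hv => hg v (List.mem_cons_of_mem _ hv)]

theorem ap_bound : ∀ (L : List ℕ) (v : ℕ), (∀ c ∈ L, c < 2 ^ 156) → ap L v < 2 ^ 156
  | [], _, _ => Nat.two_pow_pos _
  | c :: cs, v, h => by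
    refine Nat.xor_lt_two_pow ?_ (ap_bound cs _ fun d hd => h d (List.mem_cons_of_mem _ hd))
    cases Nat.testBit v 0
    · exact Nat.two_pow_pos _
    · exact h c List.mem_cons_self

theorem pc_spec_aux (R : List ℕ) (hR : ∀ v ∈ R, v < 2 ^ 156) : ∀ (cs : List ℕ) (i : ℕ),
    i + cs.length ≤ 156 → (∀ c ∈ cs, c < 2 ^ 156) →
    pc (maskSlots R.length) cs (pack R >>> i) = pack (R.map fun v => ap cs (v >>> i))
  | [], i, _, _ => by
    simp only [pc, ap]
    induction R with
    | nil => rfl
    | cons a R ih =>
      simp only [List.map_cons, pack, ← ih fun v hv => hR v (List.mem_cons_of_mem _ hv), mul_zero, add_zero]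
  | c :: cs, i, hi, hc => by
    simp only [List.length_cons] at hi
    have hcs : ∀ d ∈ cs, d < 2 ^ 156 := fun d hd => hc d (List.mem_cons_of_mem _ hd)
    rw [pc, ← Nat.shiftRight_add, pc_spec_aux R hR cs (i + 1) (by omega) hcs,
      and_mask R i (by omega) hR, pack_mul, List.map_map, pack_xor R _ _
        (fun v _ => ?_) (fun v _ => ap_bound _ _ hcs)]
    · refine congrArg pack (List.map_congr_left fun v _ => ?_)
      simp only [Function.comp_apply, ap, Nat.testBit_shiftRight, Nat.add_zero,
        Nat.shiftRight_succ]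
      cases v.testBit i <;> simp
    · simp only [Function.comp_apply]
      split_ifs with hb
      · rw [one_mul]; exact hc c List.mem_cons_self
      · rw [zero_mul]; exact Nat.two_pow_pos _

theorem pc_spec {R L : List ℕ} (hR : ∀ v ∈ R, v < 2 ^ 156) (hL : ∀ c ∈ L, c < 2 ^ 156)
    (hlen : L.length ≤ 156) :
    pc (maskSlots R.length) L (pack R) = pack (R.map (ap L)) := by
  have h := pc_spec_aux R hR L 0 (by omega) hL
  simpa using h

theorem pack_inj : ∀ {R S : List ℕ}, R.length = S.length → (∀ v ∈ R, v < 2 ^ 156) →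
    (∀ v ∈ S, v < 2 ^ 156) → pack R = pack S → R = S
  | [], [], _, _, _, _ => rfl
  | [], _ :: _, h, _, _, _ => absurd h (by simp)
  | _ :: _, [], h, _, _, _ => absurd h (by simp)
  | a :: R, b :: S, hl, hR, hS, e => by
    have h1 := hR a List.mem_cons_self
    have h2 := hS b List.mem_cons_self
    simp only [pack] at e
    have hab : a = b := by
      have := congrArg (fun n => n % 2 ^ 156) e
      simp only [Nat.mul_add_mod] at this
      rwa [Nat.mod_eq_of_lt h1, Nat.mod_eq_of_lt h2] at this
    subst hab
    have hP : pack R = pack S := Nat.eq_of_mul_eq_mul_left (Nat.two_pow_pos 156) (by omega)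
    rw [pack_inj (by simpa using hl) (fun v hv => hR v (List.mem_cons_of_mem _ hv))
      (fun v hv => hS v (List.mem_cons_of_mem _ hv)) hP]

/-- Numbers below `2 ^ 156`, and at most 156 of them. -/
def goodL (L : List ℕ) : Bool := Nat.ble L.length 156 && L.all (fun c => Nat.blt c (2 ^ 156))

theorem goodL_spec {L : List ℕ} (h : goodL L = true) :
    L.length ≤ 156 ∧ ∀ c ∈ L, c < 2 ^ 156 := by
  simpa [goodL, List.all_eq_true, Nat.ble_eq, Nat.blt_eq] using h

/-- The packed columns of a word. -/
def wcP (tab : List (List ℕ)) (d : List ℕ) (w : List ℕ) : ℕ :=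
  w.foldl (fun P g => pc (maskSlots d.length) (tab.getD g d) P) (pack d)

theorem wcP_spec {tab : List (List ℕ)} {d : List ℕ} (ht : tab.all goodL = true)
    (hd : goodL d = true) (w : List ℕ) :
    wcP tab d w = pack (w.foldl (fun L g => L.map (ap (tab.getD g d))) d) ∧
      (w.foldl (fun L g => L.map (ap (tab.getD g d))) d).length = d.length ∧
      ∀ c ∈ w.foldl (fun L g => L.map (ap (tab.getD g d))) d, c < 2 ^ 156 := by
  have hg : ∀ g, goodL (tab.getD g d) = true := fun g => by
    by_cases h : g < tab.length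
    · rw [List.getD_eq_getElem _ _ h]
      exact List.all_eq_true.1 ht _ (List.getElem_mem h)
    · rw [List.getD_eq_default _ _ (Nat.le_of_not_lt h)]
      exact hd
  suffices h : ∀ (w L : List ℕ), L.length = d.length → (∀ c ∈ L, c < 2 ^ 156) →
      w.foldl (fun P g => pc (maskSlots d.length) (tab.getD g d) P) (pack L) =
        pack (w.foldl (fun L g => L.map (ap (tab.getD g d))) L) ∧
      (w.foldl (fun L g => L.map (ap (tab.getD g d))) L).length = d.length ∧
      ∀ c ∈ w.foldl (fun L g => L.map (ap (tab.getD g d))) L, c < 2 ^ 156 from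
    h w d rfl (goodL_spec hd).2
  intro w
  induction w with
  | nil => exact fun L h1 h2 => ⟨rfl, h1, h2⟩
  | cons g w ih =>
    intro L h1 h2
    obtain ⟨k1, k2⟩ := goodL_spec (hg g)
    simp only [List.foldl_cons]
    rw [← h1, pc_spec h2 k2 k1, h1]
    refine ih _ (by simp [h1]) fun c hc => ?_
    obtain ⟨v, -, rfl⟩ := List.mem_map.1 hc
    exact ap_bound _ _ k2

/-- The check that a word has given columns. -/
def wordOk (tab : List (List ℕ)) (d w T : List ℕ) : Bool :=
  goodL T && Nat.beq T.length d.length && Nat.beq (wcP tab d w) (pack T)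

theorem wordOk_spec {tab : List (List ℕ)} {d w T : List ℕ} (ht : tab.all goodL = true)
    (hd : goodL d = true) (h : wordOk tab d w T = true) :
    w.foldl (fun L g => L.map (ap (tab.getD g d))) d = T := by
  simp only [wordOk, Bool.and_eq_true, Nat.beq_eq] at h
  obtain ⟨⟨hT, hl⟩, he⟩ := h
  obtain ⟨e1, e2, e3⟩ := wcP_spec ht hd w
  exact pack_inj (e2.trans hl.symm) e3 (goodL_spec hT).2 (e1.symm.trans he)

end CfsgLib.Chev.E6Fi22
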