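import Cfsg.Agent.Lib.Known.E6Fi22.Gens

/-!
The fixed vector, the combinations isolating it, and its spanning images.
-/

set_option autoImplicit false
set_option maxRecDepth 100000

namespace CfsgLib.Chev.E6Fi22

open CfsgLib.Fi22P.Cols (ap idc)

/-- The combination of the displacements. -/
def fixSum (v : ℕ) : ℕ :=
  (List.range 6).foldr (fun m acc =>
    ap (fixComb.getD m []) (ap (elCols.getD ((fixWords.getD m []).getD 0 0) (idc 156)) v ^^^ v)
      ^^^ acc) 0

/-- The projection along the fixed vector. -/
def fixProj (v : ℕ) : ℕ := v ^^^ scaleV (v.testBit fixP) (v.testBit (78 + fixP)) fixV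

theorem fix_data : (Nat.blt fixP 78 && Nat.blt fixV (2 ^ 156) &&
    (List.range 6).all (fun m => Nat.ble 1 ((fixWords.getD m []).getD 0 0) && Nat.blt ((fixWords.getD m []).getD 0 0) 9 &&
      Nat.beq (ap (elCols.getD ((fixWords.getD m []).getD 0 0) (idc 156)) fixV) fixV) &&
    Nat.beq spinB.length 156 && Nat.beq (spinB.getD 0 0) fixV &&
    (List.range 77).all (fun k => Nat.ble (spinPar.getD k (0, 0)).1 k &&
      Nat.ble 1 (spinPar.getD k (0, 0)).2 && Nat.blt (spinPar.getD k (0, 0)).2 9 &&
      Nat.beq (spinB.getD (2 * (k + 1)) 0) (ap (elCols.getD (spinPar.getD k (0, 0)).2 (idc 156))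
        (spinB.getD (2 * (spinPar.getD k (0, 0)).1) 0))) &&
    (List.range 78).all (fun k =>
      Nat.beq (spinB.getD (2 * k + 1) 0) (wScale (spinB.getD (2 * k) 0)))) = true := by
  decide +kernel

theorem fix_comb : decide ((idc 156).map fixSum = (idc 156).map fixProj) = true := by
  decide +kernel

theorem spin_inv : decide (spinInv.map (ap spinB) = idc 156) = true := by decide +kernel

end CfsgLib.Chev.E6Fi22
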