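import Cfsg.Agent.Lib.Known.E6Fi22.Gens
import Cfsg.Agent.Lib.Known.E6Fi22.Packed
import Cfsg.Agent.Lib.Fi22P.PermCheck

/-!
The words in the root elements, the involutions and their relations.
-/

set_option autoImplicit false
set_option maxRecDepth 100000

namespace CfsgLib.Chev.E6Fi22

open CfsgLib.Fi22P.Cols (idc)

/-- The factors of the generators by number, the last one first. -/
def gIdx : List (List ℕ) :=
  [[0], [1], [2], [3]] ++ (List.range 12).map fun i => [5 + 2 * i, 4 + 2 * i]

theorem gIdx_facs : gIdx.map (fun l => l.reverse.map fun j => facT.getD j (0, false, false)) =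
    gFacs := by decide +kernel

theorem fac_lengths : (Nat.beq facT.length 28 && Nat.beq facCols.length 28 &&
    Nat.beq genCols.length 16 && Nat.beq elCols.length 9 && Nat.beq elWords.length 9 &&
    gIdx.all (fun l => l.all fun j => Nat.blt j 28) &&
    elWords.all (fun w => w.all fun g => Nat.blt g 16) &&
    facT.all (fun f => Nat.blt f.1 72) &&
    facCols.all goodL && genCols.all goodL && elCols.all goodL && goodL (idc 156)) = true := by
  decide +kernel

theorem gen_words : (List.range 16).all (fun g =>
    wordOk facCols (idc 156) (gIdx.getD g []) (genCols.getD g [])) = true := by decide +kernel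

theorem el_words : (List.range 9).all (fun i =>
    wordOk genCols (idc 156) (elWords.getD i []) (elCols.getD i [])) = true := by decide +kernel

theorem el_rels : CfsgLib.Fi22P.relData.all (fun w =>
    w.all (fun g => Nat.blt g 9) && wordOk elCols (idc 156) w (idc 156)) = true := by decide +kernel

end CfsgLib.Chev.E6Fi22
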