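import Cfsg.Agent.Lib.Known.E6Fi22.CheckFac0
import Cfsg.Agent.Lib.Known.E6Fi22.CheckFac1
import Cfsg.Agent.Lib.Known.E6Fi22.CheckFac2
import Cfsg.Agent.Lib.Known.E6Fi22.CheckFac3
import Cfsg.Agent.Lib.Known.E6Fi22.CheckWords
import Cfsg.Agent.Lib.Known.E6Fi22.CheckFix
import Cfsg.Agent.Lib.Fi22P.Perm

/-!
# A subgroup Fi₂₂ of ²E₆(2) with scalar commutant
-/

set_option autoImplicit false
set_option maxRecDepth 20000

namespace CfsgLib.Chev.E6Fi22

open Cfsg.Lie CfsgLib.J3 Matrix CfsgLib.Chev CfsgLib.Chev.TwE6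
open CfsgLib.Fi22P.Cols (ap ap_zero ap_xor ap_comp idc ap_idc)
open CfsgLib.PresCert (act act_cons act_nil act_reverse)
open CfsgLib.Fi22P (fiData fi_ok relData rels_covered)

universe v

variable {F : Type v} [Field F] (K : Fld F)

attribute [local irreducible] facT facCols genCols elCols elWords gIdx relData idc goodL wordOk
  fixComb spinB spinInv spinPar fixV fixP fixWords

/-- A factor of the generators. -/
noncomputable def facEl (j : ℕ) : GL chevE6.Idx F :=
  xU chevE6 (facT.getD j (0, false, false)).1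
    (val2 K (facT.getD j (0, false, false)).2.1 (facT.getD j (0, false, false)).2.2)

theorem getD_dflt {α : Type*} {l : List α} {i : ℕ} (h : i < l.length) (a b : α) :
    l.getD i a = l.getD i b := by
  rw [List.getD_eq_getElem _ _ h, List.getD_eq_getElem _ _ h]

theorem goodL_getD {l : List (List ℕ)} (h : l.all goodL = true) (hd : goodL (idc 156) = true)
    (g : ℕ) : goodL (l.getD g (idc 156)) = true := by
  by_cases hg : g < l.length
  · rw [List.getD_eq_getElem _ _ hg]
    exact List.all_eq_true.1 h _ (List.getElem_mem hg)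
  · rw [List.getD_eq_default _ _ (Nat.le_of_not_lt hg)]
    exact hd

theorem lens : facT.length = 28 ∧ facCols.length = 28 ∧ genCols.length = 16 ∧ elCols.length = 9 ∧
    elWords.length = 9 ∧ (∀ l ∈ gIdx, ∀ j ∈ l, j < 28) ∧ (∀ w ∈ elWords, ∀ g ∈ w, g < 16) ∧
    (∀ f ∈ facT, f.1 < 72) ∧ facCols.all goodL = true ∧ genCols.all goodL = true ∧
    elCols.all goodL = true ∧ goodL (idc 156) = true := by
  have h := fac_lengths
  simp only [Bool.and_eq_true, Nat.beq_eq] at h
  obtain ⟨⟨⟨⟨⟨⟨⟨⟨⟨⟨⟨h1, h2⟩, h3⟩, h4⟩, h5⟩, h6⟩, h7⟩, h8⟩, h9⟩, h10⟩, h11⟩, h12⟩ := h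
  refine ⟨h1, h2, h3, h4, h5, ?_, ?_, ?_, h9, h10, h11, h12⟩
  · simpa [List.all_eq_true, Nat.blt_eq] using h6
  · simpa [List.all_eq_true, Nat.blt_eq] using h7
  · simpa [List.all_eq_true, Nat.blt_eq] using h8

theorem rep_fac {j : ℕ} (hj : j < 28) :
    Rep K ((facEl K j : GL chevE6.Idx F) : Matrix chevE6.Idx chevE6.Idx F)
      (facCols.getD j (idc 156)) := by
  have hr : (facT.getD j (0, false, false)).1 < chevE6.nroots := by
    rw [List.getD_eq_getElem _ _ (by rw [lens.1]; exact hj)]
    exact lens.2.2.2.2.2.2.2.1 _ (List.getElem_mem _)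
  rw [getD_dflt (show j < facCols.length by rw [lens.2.1]; exact hj) (idc 156) []]
  refine rep_factOk K hr ?_
  have h0 := facts0
  have h1 := facts1
  have h2 := facts2
  have h3 := facts3
  simp only [List.all_eq_true, List.mem_range] at h0 h1 h2 h3
  rcases Nat.lt_or_ge j 7 with k | k
  · simpa using h0 j k
  rcases Nat.lt_or_ge j 14 with k' | k'
  · simpa [show 7 + (j - 7) = j by omega] using h1 (j - 7) (by omega)
  rcases Nat.lt_or_ge j 21 with k'' | k''
  · simpa [show 14 + (j - 14) = j by omega] using h2 (j - 14) (by omega)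
  · simpa [show 21 + (j - 21) = j by omega] using h3 (j - 21) (by omega)

theorem act_eq_prod {A : Type*} [Group A] (x : ℕ → A) :
    ∀ l : List ℕ, act x l = (l.reverse.map x).prod
  | [] => by simp [act_nil]
  | g :: l => by simp [act_cons, act_eq_prod x l]

theorem gEl_eq {g : ℕ} (hg : g < 16) : gEl K g = act (facEl K) (gIdx.getD g []) := by
  have h : gFacs.getD g [] = (gIdx.getD g []).reverse.map fun j => facT.getD j (0, false, false) := by
    rw [← gIdx_facs]
    exact List.getD_map gIdx [] (fun l : List ℕ => l.reverse.map fun j => facT.getD j (0, false, false))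
  rw [gEl, act_eq_prod, h, List.map_map]
  rfl

theorem rep_gen {g : ℕ} (hg : g < genCols.length) :
    Rep K ((gEl K g : GL chevE6.Idx F) : Matrix chevE6.Idx chevE6.Idx F)
      (genCols.getD g (idc 156)) := by
  rw [lens.2.2.1] at hg
  have h := gen_words
  simp only [List.all_eq_true, List.mem_range] at h
  have e := wordOk_spec lens.2.2.2.2.2.2.2.2.1 lens.2.2.2.2.2.2.2.2.2.2.2 (h g hg)
  rw [gEl_eq K hg, getD_dflt (show g < genCols.length by rw [lens.2.2.1]; exact hg) (idc 156) [],
    ← e]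
  refine rep_act K (fun j hj => rep_fac K (by rwa [lens.2.1] at hj)) ?_
  simp only [List.all_eq_true, Nat.blt_eq, lens.2.1]
  intro j hj
  by_cases hg' : g < gIdx.length
  · rw [List.getD_eq_getElem _ _ hg'] at hj
    exact lens.2.2.2.2.2.1 _ (List.getElem_mem hg') j hj
  · rw [List.getD_eq_default _ _ (Nat.le_of_not_lt hg')] at hj
    exact absurd hj List.not_mem_nil

/-- An involution of the subgroup. -/
noncomputable def hEl (i : ℕ) : GL chevE6.Idx F := act (gEl K) (elWords.getD i [])

theorem rep_el {i : ℕ} (hi : i < elCols.length) :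
    Rep K ((hEl K i : GL chevE6.Idx F) : Matrix chevE6.Idx chevE6.Idx F)
      (elCols.getD i (idc 156)) := by
  rw [lens.2.2.2.1] at hi
  have h := el_words
  simp only [List.all_eq_true, List.mem_range] at h
  have e := wordOk_spec lens.2.2.2.2.2.2.2.2.2.1 lens.2.2.2.2.2.2.2.2.2.2.2 (h i hi)
  rw [hEl, getD_dflt (show i < elCols.length by rw [lens.2.2.2.1]; exact hi) (idc 156) [], ← e]
  refine rep_act K (fun g hg => rep_gen K hg) ?_
  simp only [List.all_eq_true, Nat.blt_eq, lens.2.2.1]
  intro g hg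
  rw [List.getD_eq_getElem _ _ (by rw [lens.2.2.2.2.1]; exact hi)] at hg
  exact lens.2.2.2.2.2.2.1 _ (List.getElem_mem _) g hg

theorem el_rel_one {w : List ℕ} (hw : w ∈ relData) : act (hEl K) w = 1 := by
  have h := List.all_eq_true.1 el_rels w hw
  rw [Bool.and_eq_true] at h
  have e := wordOk_spec lens.2.2.2.2.2.2.2.2.2.2.1 lens.2.2.2.2.2.2.2.2.2.2.2 h.2
  have hr := rep_act K (tab := elCols) (x := hEl K) (fun g hg => rep_el K hg) (w := w)
    (by simpa [lens.2.2.2.1] using h.1)
  rw [wcT, e] at hr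
  exact Units.ext (Rep.ext hr (by rw [Units.val_one]; exact rep_one K))

theorem sq_mem : ∀ g, g < 9 → [g, g] ∈ relData := by
  have h : (List.range 9).all (fun g => relData.contains [g, g]) = true := by decide +kernel
  intro g hg
  simpa using List.all_eq_true.1 h g (List.mem_range.2 hg)

theorem el_sq {g : ℕ} (hg : g < 9) : hEl K g * hEl K g = 1 := by
  have h := el_rel_one K (sq_mem g hg)
  rwa [act_cons, act_cons, act_nil, one_mul] at h

theorem el_rels_one : ∀ w ∈ fiData.rels, act (hEl K) w = 1 := by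
  intro w hw
  have h := rels_covered
  simp only [CfsgLib.PresCert.CoxData.covered, List.all_eq_true, Bool.and_eq_true, Bool.or_eq_true,
    Nat.blt_eq, List.contains_iff_mem] at h
  obtain ⟨hlt, hm | hm⟩ := h w hw
  · exact el_rel_one K hm
  · have h2 := el_rel_one K hm
    rw [act_reverse (ng := 9) (fun g hg => el_sq K hg) hlt, inv_eq_one] at h2
    exact h2

theorem lift_eq_act (L : List (Cfsg.Spor.Fi22.Gen × Bool)) :
    FreeGroup.lift (fun x => hEl K (fiData.ix x)) (FreeGroup.mk L) =
      act (hEl K) (L.map fun p => fiData.ix p.1).reverse := by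
  induction L with
  | nil =>
    rw [← FreeGroup.one_eq_mk, map_one]
    rfl
  | cons p L ih =>
    obtain ⟨x, b⟩ := p
    rw [show FreeGroup.mk ((x, b) :: L) = FreeGroup.mk [(x, b)] * FreeGroup.mk L from rfl, map_mul,
      ih, List.map_cons, List.reverse_cons, CfsgLib.PresCert.act_append, act_cons, act_nil, one_mul]
    congr 1
    cases b
    · have e : FreeGroup.mk [(x, false)] = (FreeGroup.of x)⁻¹ := rfl
      rw [e, map_inv, FreeGroup.lift_apply_of]
      exact inv_eq_of_mul_eq_one_right (el_sq K (fi_ok.ix_lt x))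
    · exact FreeGroup.lift_apply_of

/-- The map of Fi₂₂ to matrices. -/
noncomputable def toGL : Cfsg.Spor.Fi22 →* GL chevE6.Idx F :=
  PresentedGroup.toGroup (f := fun x => hEl K (fiData.ix x)) fun r hr => by
    rw [← FreeGroup.mk_toWord (x := r), lift_eq_act K]
    exact el_rels_one K _ (List.mem_map.2
      ⟨r, CfsgLib.PresCert.CoxData.relList_mem.2 hr, rfl⟩)

theorem toGL_of (x : Cfsg.Spor.Fi22.Gen) :
    toGL K (PresentedGroup.of x) = hEl K (fiData.ix x) := PresentedGroup.toGroup.of _

theorem toGL_gen {i : ℕ} (hi : i < 9) : toGL K (fiData.gen i) = hEl K i := by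
  rw [CfsgLib.PresCert.CoxData.gen, toGL_of, fi_ok.ix_at i hi]

theorem el_ne_one : hEl K 0 ≠ 1 := by
  intro e
  have h := rep_el K (i := 0) (by rw [lens.2.2.2.1]; norm_num) 1
  rw [e, Units.val_one, one_mulVec] at h
  have h' := vec_inj K (Nat.one_lt_two_pow (by norm_num)) (ap_bound _ _
    (goodL_spec (goodL_getD lens.2.2.2.2.2.2.2.2.2.2.1 lens.2.2.2.2.2.2.2.2.2.2.2 0)).2) h
  have k : Nat.beq 1 (ap (elCols.getD 0 (idc 156)) 1) = false := by decide +kernel
  rw [← h'] at k
  simp at k

theorem toGL_injective : Function.Injective (toGL K) := by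
  haveI := CfsgLib.Fi22P.simple
  refine (MonoidHom.ker_eq_bot_iff _).1 ((IsSimpleGroup.eq_bot_or_eq_top_of_normal _
    (toGL K).normal_ker).resolve_right fun h => el_ne_one K ?_)
  rw [← toGL_gen K (show 0 < 9 by norm_num)]
  exact MonoidHom.mem_ker.1 (h ▸ Subgroup.mem_top _)

theorem act_mem {A : Type*} [Group A] {H : Subgroup A} {x : ℕ → A} (h : ∀ g, x g ∈ H) :
    ∀ w : List ℕ, act x w ∈ H
  | [] => by rw [act_nil]; exact H.one_mem
  | g :: w => by rw [act_cons]; exact H.mul_mem (act_mem h w) (h g)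

theorem range_le [Fintype F] (C : Ctx F 2) : (toGL K).range ≤ twistedE6 F 2 := by
  rintro _ ⟨x, rfl⟩
  have h : (⊤ : Subgroup Cfsg.Spor.Fi22) ≤ (twistedE6 F 2).comap (toGL K) := by
    rw [← PresentedGroup.closure_range_of, Subgroup.closure_le]
    rintro _ ⟨g, rfl⟩
    rw [SetLike.mem_coe, Subgroup.mem_comap, toGL_of]
    exact act_mem (gEl_mem K C) _
  exact h (Subgroup.mem_top x)

/-! ### The commutant -/

theorem ap_map_add {f : ℕ → ℕ} (h0 : f 0 = 0) (hf : ∀ a b, f (a ^^^ b) = f a ^^^ f b) :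
    ∀ (cs : List ℕ) (v : ℕ), ap (cs.map f) v = f (ap cs v)
  | [], _ => h0.symm
  | c :: cs, v => by
    simp only [List.map_cons, ap, ap_map_add h0 hf cs, hf]
    cases Nat.testBit v 0 <;> simp [h0]

theorem scaleV_add (a b a' b' : Bool) (c : ℕ) :
    scaleV (xor a a') (xor b b') c = scaleV a b c ^^^ scaleV a' b' c := by
  cases a <;> cases b <;> cases a' <;> cases b' <;>
    simp [scaleV, Nat.xor_assoc, Nat.xor_left_comm, Nat.xor_comm]

theorem fixProj_add (a b : ℕ) : fixProj (a ^^^ b) = fixProj a ^^^ fixProj b := by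
  simp only [fixProj, Nat.testBit_xor, scaleV_add]
  ac_rfl

theorem fixSum_add : ∀ a b, fixSum (a ^^^ b) = fixSum a ^^^ fixSum b := by
  intro a b
  unfold fixSum
  induction List.range 6 with
  | nil => simp
  | cons m l ih =>
    rw [List.foldr_cons, List.foldr_cons, List.foldr_cons, ih]
    simp only [ap_xor,
      show ∀ p q : ℕ, p ^^^ q ^^^ (a ^^^ b) = (p ^^^ a) ^^^ (q ^^^ b) from fun p q => by ac_rfl]
    ac_rfl

theorem fix_zero : fixSum 0 = 0 := by
  have h := fixSum_add 0 0
  rw [Nat.xor_self] at h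
  simpa using h

theorem proj_zero : fixProj 0 = 0 := by simp [fixProj, scaleV]

/-- A vector with the property of the fixed one is a multiple of it. -/
theorem fixed_multiple {v : ℕ} (hv : v < 2 ^ 156)
    (h : ∀ m < 6, ap (elCols.getD ((fixWords.getD m []).getD 0 0) (idc 156)) v = v) :
    vec K v = val2 K (v.testBit fixP) (v.testBit (78 + fixP)) • vec K fixV := by
  have e := congrArg (fun L => ap L v) (of_decide_eq_true fix_comb)
  simp only [ap_map_add fix_zero fixSum_add, ap_map_add proj_zero fixProj_add, ap_idc,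
    Nat.mod_eq_of_lt hv] at e
  have e0 : fixSum v = 0 := by
    have aux : ∀ l : List ℕ, (∀ m ∈ l, m < 6) → l.foldr (fun m acc => ap (fixComb.getD m [])
        (ap (elCols.getD ((fixWords.getD m []).getD 0 0) (idc 156)) v ^^^ v) ^^^ acc) 0 = 0 := by
      intro l
      induction l with
      | nil => simp
      | cons m l ih =>
        intro hl
        rw [List.foldr_cons, ih fun k hk => hl k (List.mem_cons_of_mem _ hk),
          h m (hl m List.mem_cons_self), Nat.xor_self, ap_zero, Nat.xor_self]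
    exact aux _ fun m hm => List.mem_range.1 hm
  rw [e0, fixProj] at e
  have e' : v = scaleV (v.testBit fixP) (v.testBit (78 + fixP)) fixV := by
    rw [← Nat.xor_zero v]
    conv_lhs => rw [e, ← Nat.xor_assoc, Nat.xor_self, Nat.zero_xor]
    rw [Nat.xor_zero]
  conv_lhs => rw [e']
  rw [vec_scale]

/-- A matrix commuting with the involutions from the second on is scalar. -/
theorem commutant {M : Matrix chevE6.Idx chevE6.Idx F}
    (hM : ∀ i, 1 ≤ i → i < 9 → M * (hEl K i : Matrix chevE6.Idx chevE6.Idx F) =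
      (hEl K i : Matrix chevE6.Idx chevE6.Idx F) * M) :
    ∃ s : F, M = s • 1 := by
  have d := fix_data
  simp only [Bool.and_eq_true, Nat.beq_eq, Nat.blt_eq, Nat.ble_eq, List.all_eq_true,
    List.mem_range] at d
  obtain ⟨⟨⟨⟨⟨⟨-, hvb⟩, hw⟩, hlen⟩, h0⟩, hpar⟩, hsc⟩ := d
  have el : ∀ i, 1 ≤ i → i < 9 → ∀ v, M *ᵥ vec K (ap (elCols.getD i (idc 156)) v) =
      (hEl K i : Matrix chevE6.Idx chevE6.Idx F) *ᵥ (M *ᵥ vec K v) := fun i h1 hi v => by
    rw [← rep_el K (show i < elCols.length by rw [lens.2.2.2.1]; exact hi) v, mulVec_mulVec,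
      mulVec_mulVec, hM i h1 hi]
  obtain ⟨u, hu⟩ := vec_surjective K (M *ᵥ vec K fixV)
  set w := u % 2 ^ 156 with hw'
  have hwv : vec K w = M *ᵥ vec K fixV := by rw [hw', vec_mod, hu]
  refine ⟨val2 K (w.testBit fixP) (w.testBit (78 + fixP)), ?_⟩
  set s := val2 K (w.testBit fixP) (w.testBit (78 + fixP))
  have hfix : M *ᵥ vec K fixV = s • vec K fixV := by
    rw [← hwv]
    refine fixed_multiple K (Nat.mod_lt _ (Nat.two_pow_pos _)) fun m hm => ?_
    refine vec_inj K (ap_bound _ _ (goodL_spec (goodL_getD lens.2.2.2.2.2.2.2.2.2.2.1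
      lens.2.2.2.2.2.2.2.2.2.2.2 _)).2) (Nat.mod_lt _ (Nat.two_pow_pos _)) ?_
    rw [← rep_el K (show _ < elCols.length by rw [lens.2.2.2.1]; exact (hw m hm).1.2), hwv,
      ← el _ (hw m hm).1.1 (hw m hm).1.2, (hw m hm).2]
  have hB : ∀ k, k < 156 → M *ᵥ vec K (spinB.getD k 0) = s • vec K (spinB.getD k 0) := by
    have even : ∀ j, j < 78 → M *ᵥ vec K (spinB.getD (2 * j) 0) = s • vec K (spinB.getD (2 * j) 0) := by
      intro j
      induction j using Nat.strong_induction_on with
      | _ j ih =>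
        intro hj
        rcases j with - | k
        · rw [Nat.mul_zero, h0]; exact hfix
        · obtain ⟨⟨⟨p1, p0⟩, p2⟩, p3⟩ := hpar k (by omega)
          rw [p3, el _ p0 p2, ih _ (by omega) (by omega), mulVec_smul,
            rep_el K (show _ < elCols.length by rw [lens.2.2.2.1]; exact p2)]
    intro k hk
    rcases Nat.even_or_odd' k with ⟨j, rfl | rfl⟩
    · exact even j (by omega)
    · have e : ∀ v, vec K (wScale v) = val2 K false true • vec K v := fun v => by
        rw [← vec_scale]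
        simp [scaleV]
      rw [hsc j (by omega), e, mulVec_smul, even j (by omega), smul_comm]
  have all : ∀ v, M *ᵥ vec K v = s • vec K v := by
    intro v
    have e := ap_comp spinB spinInv v
    rw [of_decide_eq_true spin_inv, ap_idc] at e
    rw [← vec_mod K v, e]
    generalize ap spinInv v = x
    have step : ∀ cs : List ℕ, (∀ c ∈ cs, M *ᵥ vec K c = s • vec K c) → ∀ x,
        M *ᵥ vec K (ap cs x) = s • vec K (ap cs x) := by
      intro cs
      induction cs with
      | nil => intro _ x; simp [ap, vec_zero]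
      | cons c cs ih =>
        intro hc x
        simp only [ap, vec_xor, mulVec_add, smul_add, ih fun d hd => hc d (List.mem_cons_of_mem _ hd)]
        cases Nat.testBit x 0 <;> simp [vec_zero, hc c List.mem_cons_self]
    refine step _ (fun c hc => ?_) x
    obtain ⟨k, hk, rfl⟩ := List.getElem_of_mem hc
    rw [← List.getD_eq_getElem _ 0 hk]
    exact hB k (hlen ▸ hk)
  refine Matrix.ext_of_mulVec_single fun j => ?_
  obtain ⟨v, hv⟩ := vec_surjective K (Pi.single j (1 : F))
  rw [← hv, all, smul_mulVec, one_mulVec]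

end CfsgLib.Chev.E6Fi22
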