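import Cfsg.Agent.Lib.Known.E6Fi22.Gens

/-!
The columns of the root elements agree with the divided powers: part 0.
-/

set_option autoImplicit false
set_option maxRecDepth 100000

namespace CfsgLib.Chev.E6Fi22

theorem facts0 : ((List.range 7).all fun i =>
    let f := facT.getD (0 + i) (0, false, false)
    factOk f.1 f.2.1 f.2.2 (facCols.getD (0 + i) [])) = true := by decide +kernel

end CfsgLib.Chev.E6Fi22
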