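import Cfsg.Agent.Lib.Fi22P.Triple
import Cfsg.Agent.Lib.J3.Mat
import Cfsg.Agent.Lib.Chev.Mono
import Cfsg.Prelude.Def_ChevE6

/-!
# Vectors of the Lie algebra of type E₆ over four elements as numbers

A vector is a number below `2 ^ 156`: the bits `j` and `78 + j` are the two coordinates over the
prime field of the entry at `j`.
-/

set_option autoImplicit false
set_option maxRecDepth 20000

namespace CfsgLib.Chev.E6Fi22

open Cfsg.Lie CfsgLib.J3 Matrix
open CfsgLib.Fi22P.Cols (ap ap_xor ap_comp idc ap_idc)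

universe v

/-- The number of a coordinate. -/
def jx : chevE6.Idx → ℕ := Sum.elim (fun i => i.val) (fun u => 6 + u.val)

theorem jx_lt : ∀ j, jx j < 78
  | Sum.inl i => by have h : i.val < 6 := i.isLt; simp only [jx, Sum.elim_inl]; omega
  | Sum.inr u => by have h : u.val < 72 := u.isLt; simp only [jx, Sum.elim_inr]; omega

theorem jx_inj : Function.Injective jx := by
  rintro (i | u) (j | w) h <;> simp only [jx, Sum.elim_inl, Sum.elim_inr] at h
  · exact congrArg _ (Fin.ext h)
  · have hi : i.val < 6 := i.isLt; omega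
  · have hj : j.val < 6 := j.isLt; omega
  · exact congrArg _ (Fin.ext (by omega))

/-- The coordinate of a number. -/
def ofJ (k : ℕ) : chevE6.Idx :=
  if h : k < 6 then Sum.inl ⟨k, h⟩ else Sum.inr ⟨(k - 6) % 72, Nat.mod_lt _ (show 0 < 72 by norm_num)⟩

theorem ofJ_jx : ∀ j, ofJ (jx j) = j
  | Sum.inl i => by
    have h : i.val < 6 := i.isLt
    unfold ofJ
    rw [dif_pos (show jx (Sum.inl i) < 6 from h)]
    rfl
  | Sum.inr u => by
    have h : u.val < 72 := u.isLt
    unfold ofJ
    rw [dif_neg (show ¬ jx (Sum.inr u) < 6 by simp [jx])]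
    refine congrArg Sum.inr (Fin.ext ?_)
    show (6 + u.val - 6) % 72 = u.val
    rw [Nat.add_sub_cancel_left, Nat.mod_eq_of_lt h]

theorem jx_ofJ {k : ℕ} (hk : k < 78) : jx (ofJ k) = k := by
  by_cases h : k < 6
  · simp [ofJ, jx, dif_pos h]
  · simp only [ofJ, jx, dif_neg h, Sum.elim_inr, Nat.mod_eq_of_lt (show k - 6 < 72 by omega)]
    omega

variable {F : Type v} [Field F] (K : Fld F)

/-- The vector of a number. -/
def vec (v : ℕ) : chevE6.Idx → F := fun j => val2 K (v.testBit (jx j)) (v.testBit (78 + jx j))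

theorem vec_zero : vec K 0 = 0 := by
  funext j
  simp [vec, val2]

theorem vec_xor (v w : ℕ) : vec K (v ^^^ w) = vec K v + vec K w := by
  funext j
  simp only [vec, Nat.testBit_xor, Pi.add_apply, val2_add]

theorem vec_mod (v : ℕ) : vec K (v % 2 ^ 156) = vec K v := by
  funext j
  have h := jx_lt j
  simp only [vec, Nat.testBit_mod_two_pow, decide_eq_true (show jx j < 156 by omega),
    decide_eq_true (show 78 + jx j < 156 by omega), Bool.true_and]

theorem vec_inj {v w : ℕ} (hv : v < 2 ^ 156) (hw : w < 2 ^ 156) (h : vec K v = vec K w) : v = w := by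
  refine Nat.eq_of_testBit_eq fun i => ?_
  by_cases hi : i < 156
  · by_cases h7 : i < 78
    · have e := val2_inj K (congrFun h (ofJ i))
      rw [jx_ofJ h7] at e
      exact e.1
    · have e := val2_inj K (congrFun h (ofJ (i - 78)))
      rw [jx_ofJ (show i - 78 < 78 by omega), show 78 + (i - 78) = i by omega] at e
      exact e.2
  · rw [Nat.testBit_lt_two_pow (lt_of_lt_of_le hv (Nat.pow_le_pow_right two_pos (Nat.le_of_not_lt hi))),
      Nat.testBit_lt_two_pow (lt_of_lt_of_le hw (Nat.pow_le_pow_right two_pos (Nat.le_of_not_lt hi)))]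

/-- Multiplication by the cube root of unity. -/
def wScale (v : ℕ) : ℕ := (v >>> 78) % 2 ^ 78 ^^^ ((v % 2 ^ 78) ^^^ (v >>> 78) % 2 ^ 78) <<< 78

theorem wScale_lo (v : ℕ) {i : ℕ} (hi : i < 78) : (wScale v).testBit i = v.testBit (78 + i) := by
  simp only [wScale, Nat.testBit_xor, Nat.testBit_shiftLeft, Nat.testBit_mod_two_pow,
    Nat.testBit_shiftRight, decide_eq_true hi, decide_eq_false (show ¬ i ≥ 78 by omega),
    Bool.true_and, Bool.false_and, Bool.xor_false]

theorem wScale_hi (v : ℕ) {i : ℕ} (hi : i < 78) :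
    (wScale v).testBit (78 + i) = xor (v.testBit i) (v.testBit (78 + i)) := by
  simp only [wScale, Nat.testBit_xor, Nat.testBit_shiftLeft, Nat.testBit_mod_two_pow,
    Nat.testBit_shiftRight, decide_eq_false (show ¬ 78 + i < 78 by omega), Nat.add_sub_cancel_left,
    decide_eq_true hi, decide_eq_true (show 78 + i ≥ 78 by omega), Bool.true_and, Bool.false_and,
    Bool.false_xor]

/-- Multiplication by a scalar given by two bits. -/
def scaleV (a b : Bool) (v : ℕ) : ℕ := (bif a then v else 0) ^^^ (bif b then wScale v else 0)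

theorem vec_scale (a b : Bool) (v : ℕ) : vec K (scaleV a b v) = val2 K a b • vec K v := by
  funext j
  have h := jx_lt j
  simp only [vec, Pi.smul_apply, smul_eq_mul, val2_mul, scaleV, Nat.testBit_xor]
  cases a <;> cases b <;>
    simp [wScale_lo v h, wScale_hi v h, Bool.xor_comm]

theorem vec_single {k : ℕ} (hk : k < 156) :
    vec K (2 ^ k) = Pi.single (ofJ (k % 78)) (val2 K (decide (k < 78)) (decide (78 ≤ k))) := by
  funext j
  have h := jx_lt j
  simp only [vec, Nat.testBit_two_pow, Pi.single_apply]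
  by_cases e : j = ofJ (k % 78)
  · subst e
    rw [if_pos rfl, jx_ofJ (Nat.mod_lt _ (by norm_num))]
    by_cases h7 : k < 78
    · rw [decide_eq_true (show k = k % 78 by omega), decide_eq_false (show ¬ k = 78 + k % 78 by omega),
        decide_eq_true h7, decide_eq_false (show ¬ 78 ≤ k by omega)]
    · rw [decide_eq_false (show ¬ k = k % 78 by omega), decide_eq_true (show k = 78 + k % 78 by omega),
        decide_eq_false h7, decide_eq_true (show 78 ≤ k by omega)]
  · rw [if_neg e]
    have e' : jx j ≠ k % 78 := fun h' => e (by rw [← h', ofJ_jx])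
    rw [decide_eq_false (show ¬ k = jx j by omega),
      decide_eq_false (show ¬ k = 78 + jx j by omega)]
    simp [val2]

/-- Every vector has a number. -/
theorem vec_surjective (u : chevE6.Idx → F) : ∃ v, vec K v = u := by
  classical
  suffices h : ∀ s : Finset chevE6.Idx, ∃ v, vec K v = ∑ j ∈ s, Pi.single j (u j) by
    obtain ⟨v, hv⟩ := h Finset.univ
    exact ⟨v, hv.trans (Finset.univ_sum_single u)⟩
  intro s
  induction s using Finset.induction_on with
  | empty => exact ⟨0, by rw [vec_zero, Finset.sum_empty]⟩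
  | @insert a s ha ih =>
    obtain ⟨v, hv⟩ := ih
    obtain ⟨p, q, hpq⟩ : ∃ p q, val2 K p q = u a := by
      rcases K.elems (u a) with h | h | h | h <;> rw [h]
      · exact ⟨false, false, by simp [val2]⟩
      · exact ⟨true, false, by simp [val2]⟩
      · exact ⟨false, true, by simp [val2]⟩
      · exact ⟨true, true, by simp [val2]⟩
    refine ⟨scaleV p q (2 ^ jx a) ^^^ v, ?_⟩
    rw [vec_xor, vec_scale, hpq, hv, Finset.sum_insert ha,
      vec_single K (show jx a < 156 by have := jx_lt a; omega), Nat.mod_eq_of_lt (jx_lt a), ofJ_jx,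
      ← Pi.single_smul, smul_eq_mul,
      decide_eq_true (jx_lt a), decide_eq_false (Nat.not_le.2 (jx_lt a))]
    simp [val2]

/-! ### Matrices acting as columns -/

/-- The matrix acts as the columns do. -/
def Rep (M : Matrix chevE6.Idx chevE6.Idx F) (L : List ℕ) : Prop :=
  ∀ v, M *ᵥ vec K v = vec K (ap L v)

theorem rep_one : Rep K (1 : Matrix chevE6.Idx chevE6.Idx F) (idc 156) := fun v => by
  rw [one_mulVec, ap_idc, vec_mod]

variable {K}

theorem Rep.mul {M N : Matrix chevE6.Idx chevE6.Idx F} {L R : List ℕ} (hM : Rep K M L) (hN : Rep K N R) :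
    Rep K (M * N) (R.map (ap L)) := fun v => by
  rw [← mulVec_mulVec, hN, hM, ap_comp]

theorem ap_basis (M : Matrix chevE6.Idx chevE6.Idx F) (L : List ℕ) : ∀ (cs : List ℕ),
    (∀ c ∈ cs, M *ᵥ vec K c = vec K (ap L c)) → ∀ v,
      M *ᵥ vec K (ap cs v) = vec K (ap (cs.map (ap L)) v)
  | [], _, _ => by simp [ap, vec_zero]
  | c :: cs, h, v => by
    simp only [List.map_cons, ap, vec_xor, mulVec_add,
      ap_basis M L cs (fun d hd => h d (List.mem_cons_of_mem _ hd))]
    cases Nat.testBit v 0 <;> simp [vec_zero, h c List.mem_cons_self]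

theorem mem_idc : ∀ {n c : ℕ}, c ∈ idc n → ∃ k < n, c = 2 ^ k
  | 0, _, h => absurd h List.not_mem_nil
  | n + 1, c, h => by
    rcases List.mem_cons.1 h with rfl | h
    · exact ⟨0, Nat.succ_pos n, rfl⟩
    · obtain ⟨d, hd, rfl⟩ := List.mem_map.1 h
      obtain ⟨k, hk, rfl⟩ := mem_idc hd
      exact ⟨k + 1, by omega, by rw [pow_succ']⟩

theorem ap_mod : ∀ (L : List ℕ) (n v : ℕ), L.length ≤ n → ap L (v % 2 ^ n) = ap L v
  | [], _, _, _ => rfl
  | c :: cs, 0, _, h => absurd h (by simp)
  | c :: cs, n + 1, v, h => by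
    have h2 : v % 2 ^ (n + 1) / 2 = v / 2 % 2 ^ n := by
      rw [pow_succ', Nat.mod_mul_right_div_self]
    simp only [ap, h2, ap_mod cs n (v / 2) (by simpa using h), Nat.testBit_mod_two_pow,
      Nat.succ_pos', decide_true, Bool.true_and]

theorem rep_of_basis {M : Matrix chevE6.Idx chevE6.Idx F} {L : List ℕ} (hL : L.length ≤ 156)
    (h : ∀ k < 156, M *ᵥ vec K (2 ^ k) = vec K (ap L (2 ^ k))) : Rep K M L := fun v => by
  have e := ap_basis (K := K) M L (idc 156) (fun c hc => by
    obtain ⟨k, hk, rfl⟩ := mem_idc hc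
    exact h k hk) v
  rwa [ap_idc, vec_mod, ap_comp, ap_idc, ap_mod L 156 v hL] at e

theorem Rep.ext {M N : Matrix chevE6.Idx chevE6.Idx F} {L : List ℕ} (hM : Rep K M L) (hN : Rep K N L) :
    M = N := by
  refine Matrix.ext_of_mulVec_single fun j => ?_
  obtain ⟨v, hv⟩ := vec_surjective K (Pi.single j (1 : F))
  rw [← hv, hM, hN]

end CfsgLib.Chev.E6Fi22
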