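import Cfsg.Agent.Lib.Known.E6Fi22.Code
import Cfsg.Agent.Lib.Known.E6Fi22.Data
import Cfsg.Agent.Lib.Known.TwAutE6
import Cfsg.Agent.Lib.PresCert.Table

/-!
# Generators of ²E₆(2) as columns
-/

set_option autoImplicit false
set_option maxRecDepth 20000

namespace CfsgLib.Chev.E6Fi22

open Cfsg.Lie CfsgLib.J3 Matrix CfsgLib.Chev CfsgLib.Chev.TwE6
open CfsgLib.Fi22P.Cols (ap ap_xor ap_comp idc ap_idc)
open CfsgLib.PresCert (act act_cons act_nil)

universe v

/-! ### The columns of a root element -/

/-- The parities of a sparse vector. -/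
def maskL : List (ℕ × ℤ) → ℕ
  | [] => 0
  | e :: L => (bif decide (e.2 % 2 ≠ 0) then 2 ^ e.1 else 0) ^^^ maskL L

theorem testBit_maskL : ∀ (L : List (ℕ × ℤ)) (i : ℕ),
    (maskL L).testBit i = decide (Table.sumAt L i % 2 ≠ 0)
  | [], i => by simp [maskL, Table.sumAt_nil]
  | (u, c) :: L, i => by
    rw [maskL, Nat.testBit_xor, testBit_maskL L, Table.sumAt_cons]
    by_cases h : u = i
    · subst h
      rcases Int.emod_two_eq_zero_or_one c with hc | hc <;>
        rcases Int.emod_two_eq_zero_or_one (Table.sumAt L u) with hs | hs <;>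
        simp [hc, hs, Int.add_emod, Nat.testBit_two_pow]
    · rcases Int.emod_two_eq_zero_or_one c with hc | hc <;>
        simp [hc, h, Nat.testBit_two_pow]

/-- The parities of a column of a divided power. -/
def colMask (r p k : ℕ) : ℕ := maskL (DataE6.tab.dpow r p k)

theorem jx_enc : ∀ j, jx j = enc chevE6 j
  | Sum.inl _ => rfl
  | Sum.inr _ => rfl

theorem testBit_colMask {r : ℕ} (hr : r < chevE6.nroots) (p : ℕ) {k : ℕ} (hk : k < 78)
    (u : chevE6.Idx) :
    (colMask r p k).testBit (jx u) = decide (divPow chevE6 r p u (ofJ k) % 2 ≠ 0) := by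
  rw [colMask, testBit_maskL, Table.divPow_apply DataE6.chk_arrays DataE6.chk_chain DataE6.chk_pairs hr,
    ← jx_enc, ← jx_enc, jx_ofJ hk]

/-- The bits of a power of a parameter. -/
def pwB (a b : Bool) : ℕ → Bool × Bool
  | 0 => (true, false)
  | p + 1 => (xor ((pwB a b p).1 && a) ((pwB a b p).2 && b),
      xor ((pwB a b p).1 && b) ((pwB a b p).2 && xor a b))

/-- One term of a column. -/
def colTerm (r : ℕ) (a b : Bool) (k p : ℕ) : ℕ :=
  let s := decide (k < 78)
  let t := decide (78 ≤ k)
  let q := pwB a b p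
  scaleV (xor (q.1 && s) (q.2 && t)) (xor (q.1 && t) (q.2 && xor s t)) (colMask r p (k % 78))

/-- A column of a root element. -/
def colF (r : ℕ) (a b : Bool) (k : ℕ) : ℕ :=
  colTerm r a b k 0 ^^^ colTerm r a b k 1 ^^^ colTerm r a b k 2 ^^^ colTerm r a b k 3

variable {F : Type v} [Field F] (K : Fld F)

theorem val2_pw (a b : Bool) : ∀ p, val2 K (pwB a b p).1 (pwB a b p).2 = val2 K a b ^ p
  | 0 => by simp [pwB, val2]
  | p + 1 => by rw [pow_succ, ← val2_pw a b p, val2_mul, pwB]

theorem cast_parity (n : ℤ) : (n : F) = val2 K (decide (n % 2 ≠ 0)) false := by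
  have h2 := K.two
  obtain ⟨m, rfl | rfl⟩ := n.even_or_odd'
  · simp [val2, h2, Int.mul_emod_right]
  · simp [val2, h2, Int.add_emod, Int.mul_emod_right]

theorem vec_colMask {r : ℕ} (hr : r < chevE6.nroots) (p : ℕ) {k : ℕ} (hk : k < 78)
    (u : chevE6.Idx) :
    vec K (colMask r p k) u = (divPow chevE6 r p u (ofJ k) : F) := by
  have hhi : (colMask r p k).testBit (78 + jx u) = false := by
    rw [colMask, testBit_maskL]
    have hb := Table.bounded_dpow DataE6.chk_arrays DataE6.chk_pairs hr
      (b := k) hk p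
    have h0 : Table.sumAt (DataE6.tab.dpow r p k) (78 + jx u) = 0 := by
      refine List.sum_eq_zero fun x hx => ?_
      obtain ⟨e, he, rfl⟩ := List.mem_map.1 hx
      obtain ⟨he1, he2⟩ := List.mem_filter.1 he
      have h1 : e.1 < 78 := hb e he1
      rw [Nat.beq_eq] at he2
      omega
    simp [h0]
  rw [cast_parity K, vec, testBit_colMask hr p hk, hhi]

theorem vec_colF {r : ℕ} (hr : r < chevE6.nroots) (a b : Bool) {k : ℕ} (hk : k < 156) :
    xR chevE6 r (val2 K a b) *ᵥ vec K (2 ^ k) = vec K (colF r a b k) := by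
  have term : ∀ p u, vec K (colTerm r a b k p) u = val2 K a b ^ p *
      val2 K (decide (k < 78)) (decide (78 ≤ k)) * (divPow chevE6 r p u (ofJ (k % 78)) : F) := by
    intro p u
    rw [colTerm, vec_scale, Pi.smul_apply, smul_eq_mul, vec_colMask K hr p (Nat.mod_lt _ (by norm_num)), ← val2_pw K a b p, val2_mul]
  funext u
  rw [vec_single K hk, colF, vec_xor, vec_xor, vec_xor, Pi.add_apply, Pi.add_apply, Pi.add_apply,
    term, term, term, term, Matrix.mulVec, dotProduct, Finset.sum_eq_single (ofJ (k % 78))]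
  · rw [Pi.single_eq_same]
    simp only [xR, Finset.sum_range_succ, Finset.sum_range_zero, zero_add, Matrix.add_apply,
      Matrix.smul_apply, smul_eq_mul, castM, RingHom.mapMatrix_apply, Matrix.map_apply,
      Int.coe_castRingHom]
    ring
  · intro j _ hj
    rw [Pi.single_eq_of_ne hj, mul_zero]
  · exact fun h => absurd (Finset.mem_univ _) h

theorem rep_factor {r : ℕ} (hr : r < chevE6.nroots) {a b : Bool} {L : List ℕ}
    (hL : L.length = 156)
    (h : (List.range 156).all (fun k => Nat.beq (colF r a b k) (ap L (2 ^ k))) = true) :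
    Rep K ((xU chevE6 r (val2 K a b) : GL chevE6.Idx F) : Matrix chevE6.Idx chevE6.Idx F) L := by
  rw [DataE6.facts.xU_val' hr]
  refine rep_of_basis hL.le fun k hk => ?_
  rw [vec_colF K hr a b hk]
  simp only [List.all_eq_true, List.mem_range, Nat.beq_eq] at h
  rw [h k hk]

theorem wScale_two_pow {k : ℕ} (hk : k < 78) : wScale (2 ^ k) = 2 ^ (78 + k) := by
  refine Nat.eq_of_testBit_eq fun i => ?_
  rcases lt_or_ge i 78 with h | h
  · rw [wScale_lo _ h, Nat.testBit_two_pow, Nat.testBit_two_pow, decide_eq_false (by omega),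
      decide_eq_false (by omega)]
  · rcases lt_or_ge i 156 with h' | h'
    · obtain ⟨j, rfl⟩ : ∃ j, i = 78 + j := ⟨i - 78, by omega⟩
      rw [wScale_hi _ (by omega), Nat.testBit_two_pow, Nat.testBit_two_pow, Nat.testBit_two_pow,
        decide_eq_false (show ¬ k = 78 + j by omega)]
      simp
    · simp only [wScale, Nat.testBit_xor, Nat.testBit_shiftLeft, Nat.testBit_mod_two_pow,
        Nat.testBit_shiftRight, Nat.testBit_two_pow, decide_eq_false (show ¬ 78 + k = i by omega),
        decide_eq_false (show ¬ i < 78 by omega), decide_eq_false (show ¬ i - 78 < 78 by omega),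
        Bool.false_and, Bool.and_false, Bool.xor_false]

theorem ap_two_pow : ∀ (L : List ℕ) (k : ℕ), ap L (2 ^ k) = L.getD k 0
  | [], _ => by simp [ap]
  | c :: cs, 0 => by simp [ap, CfsgLib.Fi22P.Cols.ap_zero]
  | c :: cs, k + 1 => by
    have h : 2 ^ (k + 1) / 2 = 2 ^ k := by rw [pow_succ]; simp
    simp [ap, h, ap_two_pow cs k, Nat.testBit_two_pow]

/-- The check of the columns of a root element. -/
def factOk (r : ℕ) (a b : Bool) (L : List ℕ) : Bool :=
  Nat.beq L.length 156 && (List.range 78).all fun k =>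
    Nat.beq (colF r a b k) (L.getD k 0) && Nat.beq (wScale (L.getD k 0)) (L.getD (78 + k) 0)

theorem rep_factOk {r : ℕ} (hr : r < chevE6.nroots) {a b : Bool} {L : List ℕ}
    (h : factOk r a b L = true) :
    Rep K ((xU chevE6 r (val2 K a b) : GL chevE6.Idx F) : Matrix chevE6.Idx chevE6.Idx F) L := by
  simp only [factOk, ← ap_two_pow, Bool.and_eq_true, Nat.beq_eq, List.all_eq_true, List.mem_range] at h
  rw [DataE6.facts.xU_val' hr]
  refine rep_of_basis h.1.le fun k hk => ?_
  rcases lt_or_ge k 78 with hk' | hk'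
  · rw [vec_colF K hr a b hk, (h.2 k hk').1]
  · obtain ⟨j, rfl⟩ : ∃ j, k = 78 + j := ⟨k - 78, by omega⟩
    obtain ⟨e1, e2⟩ := h.2 j (by omega)
    have e3 : ∀ v, vec K (wScale v) = val2 K false true • vec K v := fun v => by
      rw [← vec_scale]
      simp [scaleV]
    rw [← wScale_two_pow (show j < 78 by omega), e3, mulVec_smul,
      vec_colF K hr a b (show j < 156 by omega), e1, ← e3, e2,
      wScale_two_pow (show j < 78 by omega)]

/-! ### Words -/

/-- The columns of a word. -/
def wcT (tab : List (List ℕ)) (w : List ℕ) : List ℕ :=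
  w.foldl (fun L g => L.map (ap (tab.getD g (idc 156)))) (idc 156)

theorem rep_act {x : ℕ → GL chevE6.Idx F} {tab : List (List ℕ)}
    (hx : ∀ g, g < tab.length →
      Rep K ((x g : GL chevE6.Idx F) : Matrix chevE6.Idx chevE6.Idx F) (tab.getD g (idc 156)))
    {w : List ℕ} (hw : w.all (fun g => Nat.blt g tab.length) = true) :
    Rep K ((act x w : GL chevE6.Idx F) : Matrix chevE6.Idx chevE6.Idx F) (wcT tab w) := by
  suffices h : ∀ (w : List ℕ), (∀ g ∈ w, g < tab.length) → ∀ (M : Matrix chevE6.Idx chevE6.Idx F)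
      (L : List ℕ), Rep K M L →
        Rep K (((act x w : GL chevE6.Idx F) : Matrix chevE6.Idx chevE6.Idx F) * M)
          (w.foldl (fun L g => L.map (ap (tab.getD g (idc 156)))) L) by
    simpa [wcT] using h w (by simpa [List.all_eq_true, Nat.blt_eq] using hw) 1 _ (rep_one K)
  intro w
  induction w with
  | nil => intro _ M L h; simpa [act_nil] using h
  | cons g w ih =>
    intro hw M L h
    rw [act_cons, Units.val_mul, mul_assoc, List.foldl_cons]
    exact ih (fun a ha => hw a (List.mem_cons_of_mem _ ha)) _ _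
      ((hx g (hw g List.mem_cons_self)).mul h)

/-! ### The generators -/

/-- The roots of the single generators. -/
def sList : List ℕ := [e6p2, e6m2, e6p4, e6m4]

/-- The pairs of roots. -/
def pList : List (ℕ × ℕ) := [(e6p1, e6p6), (e6m1, e6m6), (e6p3, e6p5), (e6m3, e6m5)]

/-- The non-zero parameters. -/
def parList : List (Bool × Bool) := [(true, false), (false, true), (true, true)]

/-- The factors of the generators. -/
def gFacs : List (List (ℕ × Bool × Bool)) :=
  (sList.map fun r => [(r, true, false)]) ++ pList.flatMap fun rs =>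
    parList.map fun t => [(rs.1, t.1, t.2), (rs.2, xor t.1 t.2, t.2)]

/-- A generator. -/
noncomputable def gEl (g : ℕ) : GL chevE6.Idx F :=
  ((gFacs.getD g []).map fun f => xU chevE6 f.1 (val2 K f.2.1 f.2.2)).prod

theorem gEl_mem [Fintype F] (C : Ctx F 2) (g : ℕ) : gEl K g ∈ twistedE6 F 2 := by
  by_cases hg : g < gFacs.length
  · obtain ⟨l, hl, e⟩ : ∃ l ∈ gFacs, gEl K g = (l.map fun f => xU chevE6 f.1 (val2 K f.2.1 f.2.2)).prod :=
      ⟨_, List.getElem_mem hg, by rw [gEl, List.getD_eq_getElem _ _ hg]⟩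
    rw [e]
    simp only [gFacs, List.mem_append, List.mem_map, List.mem_flatMap] at hl
    rcases hl with ⟨r, hr, rfl⟩ | ⟨rs, hrs, t, -, rfl⟩
    · simp only [List.map_cons, List.map_nil, List.prod_cons, List.prod_nil, mul_one]
      exact C.one_mem hr (by simp [val2])
    · simp only [List.map_cons, List.map_nil, List.prod_cons, List.prod_nil, mul_one]
      have h := C.two_mem hrs (val2 K t.1 t.2)
      rwa [C.hf, pow_two, val2_mul, show (xor (t.1 && t.1) (t.2 && t.2)) = xor t.1 t.2 by simp,
        show (xor (t.1 && t.2) (t.2 && xor t.1 t.2)) = t.2 by cases t.1 <;> cases t.2 <;> rfl] at h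
  · rw [gEl, List.getD_eq_default _ _ (Nat.le_of_not_lt hg)]
    exact Subgroup.one_mem _

end CfsgLib.Chev.E6Fi22
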