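import Cfsg.Agent.Lib.Known.E6Fi22.Group
import Cfsg.Agent.Lib.Known.TwAutE6

/-!
# Three classes of subgroups Fi₂₂ in ²E₆(2)

An element of the inner-diagonal group normalising the subgroup squares to an element of the
subgroup times a scalar, since every automorphism of Fi₂₂ squares to an inner one and the
commutant is scalar; as the index of the twisted group is odd, the element is inner.
-/

set_option autoImplicit false
set_option maxRecDepth 20000
set_option Elab.async false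

namespace CfsgLib.Chev.E6Fi22

open Cfsg.Lie CfsgLib.J3 CfsgLib.Chev CfsgLib.Chev.TwE6
open CfsgLib.Fi22P (fiData fi_ok)

universe v

variable {F : Type v} [Field F] [Fintype F] [CharP F 2] (K : Fld F) (C : Ctx F 2)

omit [CharP F 2] in
/-- An element centralising the subgroup is a scalar matrix. -/
theorem centralizes_scalar {z : GL chevE6.Idx F} (hz : ∀ x, z * toGL K x = toGL K x * z) :
    ∃ s : F, (z : Matrix chevE6.Idx chevE6.Idx F) = s • 1 :=
  commutant K fun i _ hi => by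
    have h := congrArg Units.val (hz (fiData.gen i))
    rwa [Units.val_mul, Units.val_mul, toGL_gen K hi] at h

include C

/-- A diagonal automorphism which is inner comes from the torus. -/
theorem mem_range_of_inner {x : TorT F 2} {g : ↥(twistedE6 F 2)}
    (h : C.dA x = MulAut.conj g) : x ∈ C.chiT.range := by
  have : Fact (Nat.Prime 2) := ⟨Nat.prime_two⟩
  have hn := C.dA_norm 2 x
  rw [h] at hn
  obtain ⟨r, hr⟩ := C.exists_parG (TwAut.Norm.mem_H (C.frame 2) hn)
  have h1 := C.parG_acts r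
  rw [← hr, ← h] at h1
  exact ⟨r, (h1.unique C (C.dA_acts x)).1⟩

variable {G0 : Type} [Group G0] [Finite G0] {f : G0 →* GL chevE6.Idx F} (hf : Function.Injective f)
  (hsub : f.range ≤ twistedE6 F 2)
  (hcent : ∀ {z : GL chevE6.Idx F}, (∀ x, z * f x = f x * z) →
    ∃ s : F, (z : Matrix chevE6.Idx chevE6.Idx F) = s • 1)
  (hOut : ∀ α : MulAut G0, ∃ m, α * α = MulAut.conj m)
include hf hsub hcent hOut

/-- An element normalising the subgroup has inner diagonal part. -/
theorem mem_range_of_normalizes {g : GL chevE6.Idx F} (hg : g ∈ twistedE6 F 2) (e : TorT F 2)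
    (hn : ∀ h ∈ f.range, g * C.dW e * h * (g * C.dW e)⁻¹ ∈ f.range) :
    e ∈ C.chiT.range := by
  set z := g * C.dW e with hz
  let γ : G0 →* G0 :=
    MonoidHom.mk' (fun x => (hn _ ⟨x, rfl⟩).choose) fun a b => hf (by
      rw [(hn _ ⟨_, rfl⟩).choose_spec, map_mul (f), map_mul (f),
        (hn _ ⟨_, rfl⟩).choose_spec, (hn _ ⟨_, rfl⟩).choose_spec]
      group)
  have hγ : ∀ x, f (γ x) = z * f x * z⁻¹ := fun x => (hn _ ⟨x, rfl⟩).choose_spec
  have inj : Function.Injective γ := fun a b e' => hf (by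
    have := congrArg (f) e'
    rw [hγ, hγ] at this
    exact mul_left_cancel (mul_right_cancel this))
  obtain ⟨m, hm⟩ := hOut (MulEquiv.ofBijective γ (Finite.injective_iff_bijective.1 inj))
  have hm' : ∀ x, γ (γ x) = m * x * m⁻¹ := fun x => by
    have := congrArg (fun φ : MulAut G0 => φ x) hm
    simpa [MulAut.mul_apply, MulAut.conj_apply] using this
  obtain ⟨s, hs⟩ := hcent (z := (f m)⁻¹ * (z * z)) fun x => by
    have := congrArg (f) (hm' x)
    rw [hγ, hγ, map_mul, map_mul, map_inv] at this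
    calc (f m)⁻¹ * (z * z) * f x
        = (f m)⁻¹ * (z * (z * f x * z⁻¹) * z⁻¹) * (z * z) := by group
      _ = f x * ((f m)⁻¹ * (z * z)) := by rw [this]; group
  have central : ∀ y : GL chevE6.Idx F, z * z * y * (z * z)⁻¹ = f m * y * (f m)⁻¹ := by
    intro y
    have hc : (f m)⁻¹ * (z * z) * y = y * ((f m)⁻¹ * (z * z)) := Units.ext (by
      rw [Units.val_mul, Units.val_mul _ ((f m)⁻¹ * (z * z)), hs, Matrix.smul_mul,
        Matrix.mul_smul, Matrix.one_mul, Matrix.mul_one])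
    rw [show z * z * y * (z * z)⁻¹ =
      f m * ((f m)⁻¹ * (z * z) * y) * (z * z)⁻¹ by group, hc]
    group
  have hg2 : C.dW e * g * (C.dW e)⁻¹ ∈ twistedE6 F 2 := C.dW_mem e g hg
  refine (fun h2 : e * e ∈ C.chiT.range => ?_) (mem_range_of_inner C
    (g := (⟨g, hg⟩ * ⟨_, hg2⟩)⁻¹ * ⟨_, hsub ⟨m, rfl⟩⟩) (MulEquiv.ext fun y => Subtype.ext ?_))
  · have h3 : e ^ 3 ∈ C.chiT.range := by
      have : C.chiT.range.index = 3 := C.index_chiT
      exact this ▸ Subgroup.pow_index_mem _ e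
    have := Subgroup.mul_mem _ h3 (Subgroup.inv_mem _ h2)
    rwa [pow_succ, _root_.sq, mul_comm (e * e), mul_inv_cancel_right] at this
  · rw [MulAut.conj_apply, C.dA_val, map_mul]
    simp only [Subgroup.coe_mul, Subgroup.coe_inv]
    rw [show C.dW e * C.dW e * (y : GL chevE6.Idx F) * (C.dW e * C.dW e)⁻¹ =
      (g * (C.dW e * g * (C.dW e)⁻¹))⁻¹ * (z * z * y * (z * z)⁻¹) *
        (g * (C.dW e * g * (C.dW e)⁻¹)) by rw [hz]; group, central]
    group

/-- Three pairwise non-conjugate images. -/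
theorem three_images :
    ∃ H : Fin 3 → Subgroup ↥(twistedE6 F 2),
      (∀ i, Nonempty ((H i) ≃* G0)) ∧
      (∀ i j, i ≠ j → ∀ g : ↥(twistedE6 F 2),
        (H i).map (MulAut.conj g).toMonoidHom ≠ H j) := by
  have hle := hsub
  have hidx : C.chiT.range.index = 3 := C.index_chiT
  obtain ⟨x, hx⟩ : ∃ x, x ∉ C.chiT.range := by
    by_contra h
    push Not at h
    rw [(Subgroup.eq_top_iff' _).2 h, Subgroup.index_top] at hidx
    omega
  have hx3 : x ^ 3 ∈ C.chiT.range := hidx ▸ Subgroup.pow_index_mem _ x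
  let H : Fin 3 → Subgroup ↥(twistedE6 F 2) := fun i =>
    (((f).range).subgroupOf (twistedE6 F 2)).map (C.dA (x ^ (i : ℕ))).toMonoidHom
  refine ⟨H, fun i => ?_, fun i j hij g hgij => ?_⟩
  · exact ⟨((((f).range).subgroupOf (twistedE6 F 2)).equivMapOfInjective _
      (C.dA _).injective).symm.trans ((Subgroup.subgroupOfEquivOfLe hle).trans
        (MonoidHom.ofInjective hf).symm)⟩
  · set a := x ^ (i : ℕ) with ha
    set b := x ^ (j : ℕ) with hb
    have hmem : (C.dW b)⁻¹ * (g : GL chevE6.Idx F) * C.dW b ∈ twistedE6 F 2 := by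
      have := C.dW_mem b⁻¹ _ g.2
      rwa [map_inv, inv_inv] at this
    have he := mem_range_of_normalizes C hf hsub hcent hOut hmem (b⁻¹ * a) fun h hh => by
      have h1 : MulAut.conj g (C.dA a ⟨h, hle hh⟩) ∈ H j :=
        hgij ▸ ⟨_, ⟨_, Subgroup.mem_subgroupOf.2 hh, rfl⟩, rfl⟩
      obtain ⟨k, hk, hk'⟩ := h1
      have e1 : C.dW b * (k : GL chevE6.Idx F) * (C.dW b)⁻¹ =
          (g : GL chevE6.Idx F) * (C.dW a * h * (C.dW a)⁻¹) * (g : GL chevE6.Idx F)⁻¹ :=
        congrArg Subtype.val hk'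
      rw [map_mul, map_inv]
      convert Subgroup.mem_subgroupOf.1 hk using 1
      rw [show (k : GL chevE6.Idx F) =
        (C.dW b)⁻¹ * (C.dW b * (k : GL chevE6.Idx F) * (C.dW b)⁻¹) * C.dW b by group, e1]
      group
    apply hx
    rw [ha, hb] at he
    have hne : (i : ℕ) ≠ j := fun e => hij (Fin.ext e)
    have hi := i.isLt
    have hj := j.isLt
    have h2 : x ^ 2 ∈ C.chiT.range → x ∈ C.chiT.range := fun h => by
      have := Subgroup.mul_mem _ hx3 (Subgroup.inv_mem _ h)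
      rwa [pow_succ, mul_assoc, mul_comm x, ← mul_assoc, mul_inv_cancel, one_mul] at this
    have hcases : ((i : ℕ) = 1 ∧ (j : ℕ) = 0) ∨ ((i : ℕ) = 2 ∧ (j : ℕ) = 0) ∨
        ((i : ℕ) = 0 ∧ (j : ℕ) = 1) ∨ ((i : ℕ) = 2 ∧ (j : ℕ) = 1) ∨
        ((i : ℕ) = 0 ∧ (j : ℕ) = 2) ∨ ((i : ℕ) = 1 ∧ (j : ℕ) = 2) := by omega
    rcases hcases with ⟨e, f⟩ | ⟨e, f⟩ | ⟨e, f⟩ | ⟨e, f⟩ | ⟨e, f⟩ | ⟨e, f⟩ <;>
      rw [e, f] at he
    · simpa using he
    · exact h2 (by simpa using he)
    · exact (Subgroup.inv_mem_iff _).1 (by simpa using he)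
    · rw [pow_one, _root_.sq, inv_mul_cancel_left] at he; exact he
    · exact h2 ((Subgroup.inv_mem_iff _).1 (by simpa using he))
    · refine (Subgroup.inv_mem_iff _).1 ?_
      rw [pow_one, _root_.sq, mul_inv_rev, mul_assoc, inv_mul_cancel, mul_one] at he
      exact he

include K in
omit hf hsub hcent hOut in
/-- Three pairwise non-conjugate subgroups Fi₂₂. -/
theorem three (hFi : ∀ α : MulAut Cfsg.Spor.Fi22, ∃ m, α * α = MulAut.conj m) :
    ∃ H : Fin 3 → Subgroup ↥(twistedE6 F 2),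
      (∀ i, Cfsg.Spor.IsoFi22 (H i)) ∧
      (∀ i j, i ≠ j → ∀ g : ↥(twistedE6 F 2),
        (H i).map (MulAut.conj g).toMonoidHom ≠ H j) :=
  haveI := CfsgLib.Fi22P.card_fi.1
  three_images C (toGL_injective K) (range_le K C) (fun h => centralizes_scalar K h) hFi

end CfsgLib.Chev.E6Fi22
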