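import Cfsg.Agent.Lib.Known.E6Fi22.Main
import Cfsg.Agent.Lib.Fi22P.O7
import Cfsg.Agent.S2604

/-!
# Three classes of subgroups Ω₇(3) in ²E₆(2)

The printed subgroup of index 14080 of Fi₂₂ still has scalar commutant, and every automorphism of
Ω₇(3) squares to an inner one.
-/

set_option autoImplicit false
set_option maxRecDepth 20000

namespace CfsgLib.Chev.E6Fi22

open Cfsg.Lie CfsgLib.J3 CfsgLib.Chev CfsgLib.Chev.TwE6
open CfsgLib.PresCert (act act_cons act_nil)
open CfsgLib.Fi22P (subK fiGen sO7)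

universe v

/-- Every automorphism of the printed subgroup squares to an inner one. -/
theorem out_subK (α : MulAut subK) : ∃ m, α * α = MulAut.conj m := by
  obtain ⟨e⟩ := CfsgLib.Fi22P.subK_iso
  obtain ⟨o⟩ := Cfsg.Agent.S2604.result (F := ZMod 3) (p := 3) (f := 1) (m := 3) le_rfl (by simp)
    (by decide) le_rfl
  set β : MulAut (Cfsg.POmega (ZMod 3) (Cfsg.quadFormOdd 3 (ZMod 3))) :=
    e.symm.trans (α.trans e) with hβ
  have hc : Nat.card (Cfsg.Out (Cfsg.POmega (ZMod 3) (Cfsg.quadFormOdd 3 (ZMod 3)))) = 2 := by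
    rw [Nat.card_congr o.toEquiv]
    simp [Nat.card_eq_fintype_card]
  have h1 : (QuotientGroup.mk β : Cfsg.Out (Cfsg.POmega (ZMod 3) (Cfsg.quadFormOdd 3 (ZMod 3)))) ^ 2
      = 1 := by
    rw [← hc]
    exact pow_card_eq_one'
  rw [_root_.sq, ← QuotientGroup.mk_mul, QuotientGroup.eq_one_iff] at h1
  obtain ⟨m, hm⟩ := h1
  refine ⟨e.symm m, MulEquiv.ext fun x => e.injective ?_⟩
  have := congrArg (fun φ : MulAut (Cfsg.POmega (ZMod 3) (Cfsg.quadFormOdd 3 (ZMod 3))) => φ (e x)) hm
  simp only [MulAut.conj_apply, MulAut.mul_apply] at this ⊢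
  rw [map_mul, map_mul, map_inv, MulEquiv.apply_symm_apply]
  simpa [hβ] using this.symm

variable {F : Type v} [Field F] [Fintype F] [CharP F 2] (K : Fld F) (C : Ctx F 2)

omit [Fintype F] [CharP F 2] in
theorem subK_scalar {z : GL chevE6.Idx F}
    (hz : ∀ x : subK, z * toGL K x = toGL K x * z) :
    ∃ s : F, (z : Matrix chevE6.Idx chevE6.Idx F) = s • 1 :=
  commutant K fun i h1 hi => by
    have hm : fiGen i ∈ subK := Subgroup.subset_closure ⟨[i], by
      simp only [sO7, List.mem_cons, List.cons.injEq, and_true, List.not_mem_nil, or_false]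
      omega, by rw [act_cons, act_nil, one_mul]⟩
    have h := congrArg Units.val (hz ⟨fiGen i, hm⟩)
    rwa [Units.val_mul, Units.val_mul, toGL_gen K hi] at h

include K C in
/-- Three pairwise non-conjugate subgroups Ω₇(3). -/
theorem three_orth :
    ∃ H : Fin 3 → Subgroup ↥(twistedE6 F 2),
      (∀ i, Nonempty ((H i) ≃* subK)) ∧
      (∀ i j, i ≠ j → ∀ g : ↥(twistedE6 F 2),
        (H i).map (MulAut.conj g).toMonoidHom ≠ H j) :=
  haveI := CfsgLib.Fi22P.card_fi.1
  three_images C (f := (toGL K).comp subK.subtype)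
    ((toGL_injective K).comp Subtype.val_injective)
    (by rintro _ ⟨x, rfl⟩; exact range_le K C ⟨_, rfl⟩)
    (fun h => subK_scalar K h) out_subK

end CfsgLib.Chev.E6Fi22
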